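import Groth.Agent.PicAmpleLiftLib.Main
import Groth.Agent.ProperClopenLib.HenselGeneral
import Groth.Agent.ProperClopenLib.Components
import Groth.Agent.DvrProperLib.Closure
import Groth.Agent.CurveAmpLib.Main

/-!
# Connected closed subsets of proper schemes over henselian local rings
-/

set_option autoImplicit false
universe u

open CategoryTheory CategoryTheory.Limits AlgebraicGeometry TopologicalSpace IsLocalRing

noncomputable section

namespace PicAmpleLiftLib

theorem range_i0 (A : Type u) [CommRing A] [IsLocalRing A] :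
    Set.range (Spec.map (CommRingCat.ofHom (Ideal.Quotient.mk (maximalIdeal A)))) = {closedPoint A} := by
  show Set.range (PrimeSpectrum.comap (Ideal.Quotient.mk (maximalIdeal A))) = _
  rw [range_comap_of_surjective _ _ Ideal.Quotient.mk_surjective, Ideal.mk_ker]
  exact (PrimeSpectrum.zeroLocus_eq_singleton _).trans (congrArg ({·}) (PrimeSpectrum.ext rfl))

/-- A connected closed subset meets the closed fibre in a connected set. -/
theorem inter_closedFibre {A : Type u} [CommRing A] [HenselianLocalRing A] {X : Scheme.{u}}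
    (f : X ⟶ Spec (CommRingCat.of A)) [IsProper f] {Y : Set X} (hY : IsClosed Y) (hne : Y.Nonempty)
    (hc : _root_.IsConnected Y) :
    (Y ∩ f ⁻¹' {closedPoint A}).Nonempty ∧ _root_.IsConnected (Y ∩ f ⁻¹' {closedPoint A}) := by
  let S : Closeds X := ⟨Y, hY⟩
  let J := Scheme.IdealSheafData.vanishingIdeal S
  have hr : Set.range J.subschemeι = Y := DvrProperLib.range_subscheme_vanishingIdeal S
  let g := J.subschemeι ≫ f
  let q := pullback.fst g (Spec.map (CommRingCat.ofHom (Ideal.Quotient.mk (maximalIdeal A))))
  have hL : ProperClopenLib.Lifts q := ProperClopenLib.lifts_fst g (maximalIdeal A)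
  have hY' : ConnectedSpace J.subscheme := by
    haveI : Nonempty J.subscheme := by
      obtain ⟨y, hy⟩ := hne
      obtain ⟨z, -⟩ := (hr.ge hy)
      exact ⟨z⟩
    haveI : PreconnectedSpace J.subscheme := ⟨by
      rw [← J.subschemeι.isEmbedding.toIsInducing.isPreconnected_image, Set.image_univ, hr]
      exact hc.isPreconnected⟩
    exact ⟨‹_›⟩
  haveI := (hL.connectedSpace_iff q.continuous).mp hY'
  have h1 := (isConnected_range (f := q) q.continuous).image J.subschemeι J.subschemeι.continuous.continuousOn
  have e : J.subschemeι '' Set.range q = Y ∩ f ⁻¹' {closedPoint A} := by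
    rw [Scheme.Pullback.range_fst, range_i0]
    show J.subschemeι '' (J.subschemeι ⁻¹' (f ⁻¹' {closedPoint A})) = _
    rw [Set.image_preimage_eq_range_inter, hr]
  rw [e] at h1
  exact ⟨h1.nonempty, h1⟩

theorem exists_lift_closedFibre {A : Type u} [CommRing A] [IsNoetherianRing A] [HenselianLocalRing A]
    {X X₀ : Scheme.{u}} (f : X ⟶ Spec (CommRingCat.of A)) [IsProper f]
    (hdim : topologicalKrullDim ↥(f.fiber (closedPoint A)) ≤ 1) (i : X₀ ⟶ X) [IsClosedImmersion i]
    (hi : Set.range i.base = f.base ⁻¹' {closedPoint A}) {L : X₀.Modules} (hL : PicF.IsInvertible L) :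
    ∃ N : X.Modules, PicF.IsInvertible N ∧ Nonempty ((Scheme.Modules.pullback i).obj N ≅ L) := by
  haveI : IsLocallyNoetherian X := LocallyOfFiniteType.isLocallyNoetherian f
  haveI : CompactSpace X := QuasiCompact.compactSpace_of_compactSpace f
  haveI : IsNoetherian X := {}
  haveI : IsLocallyNoetherian X₀ := LocallyOfFiniteType.isLocallyNoetherian i
  haveI : CompactSpace X₀ := QuasiCompact.compactSpace_of_compactSpace i
  haveI : IsNoetherian X₀ := {}
  have ha : topologicalKrullDim X₀ ≤ 1 := by
    let e₁ : X₀ ≃ₜ (f ⁻¹' {closedPoint A} : Set X) := i.isEmbedding.toHomeomorph.trans (Homeomorph.setCongr hi)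
    exact ((e₁.trans (f.fiberHomeo (closedPoint A)).symm).isClosedEmbedding.isInducing.topologicalKrullDim_le).trans hdim
  haveI : X₀.IsSeparated := ⟨by
    rw [← terminal.comp_from (i ≫ f)]
    infer_instance⟩
  obtain ⟨A', hA⟩ := CurveAmpLib.exists_ample (X := X₀) ha
  refine exists_lift i ha (fun Y hY hne hc => ?_) hA hL
  rw [show Set.range i = f ⁻¹' {closedPoint A} from hi]
  exact inter_closedFibre f hY hne hc

end PicAmpleLiftLib
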