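import Groth.Agent.PicAmpleLiftLib.Topo
import Groth.Agent.FinPicLib.Main
import Groth.Agent.CycBivLib.Avoid
import Groth.Agent.CubeConsLib.IsoCls

/-!
# Lifting invertible modules from a curve inside a scheme
-/

set_option autoImplicit false
set_option linter.style.haveILetI false
universe u

open CategoryTheory CategoryTheory.Limits AlgebraicGeometry TopologicalSpace Opposite
open AmpleLib (res GenAt GenOn)
open KFlatLib (pb puSec)
open TwistLib (genSet)

noncomputable section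

namespace PicAmpleLiftLib

variable {X X₀ : Scheme.{u}} (i : X₀ ⟶ X) [IsClosedImmersion i]

/-- An open of a closed subscheme around a point is cut out by an affine open of the ambient scheme. -/
theorem exists_affine_trace {O : X₀.Opens} {x : X₀} (hx : x ∈ O) :
    ∃ W : X.Opens, IsAffineOpen W ∧ i x ∈ W ∧ i ⁻¹ᵁ W ≤ O := by
  obtain ⟨O', hO', he⟩ := i.isClosedEmbedding.toIsInducing.isOpen_iff.mp O.2
  have hxO' : i x ∈ O' := (Set.ext_iff.mp he x).mpr hx
  obtain ⟨W, hW, hxW, hWO⟩ := exists_isAffineOpen_mem_and_subset (x := i x) (U := (⟨O', hO'⟩ : X.Opens)) hxO'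
  exact ⟨W, hW, hxW, fun y hy => (Set.ext_iff.mp he y).mp (hWO hy)⟩

/-- The local datum at a zero of a section: a closed set isolating it, and a unit outside that set. -/
theorem exists_local_datum [NoetherianSpace X]
    (hb : ∀ Y : Set X, IsClosed Y → Y.Nonempty → _root_.IsConnected Y →
      (Y ∩ Set.range i).Nonempty ∧ _root_.IsConnected (Y ∩ Set.range i))
    {B : X₀.Modules} (hB : PicF.IsInvertible B) (τ : Γ(B, ⊤)) (hfin : ((genSet hB τ : Set X₀)ᶜ).Finite)
    (hclosed : ∀ z ∉ genSet hB τ, IsClosed ({z} : Set X₀)) {z : X₀} (hz : z ∉ genSet hB τ) :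
    ∃ (D : X.Opens) (C : Set X) (f : Γ(X, D)) (l : Γ(B, i ⁻¹ᵁ D)), IsClosed C ∧ i z ∈ C ∧ C ⊆ D ∧
      (∀ y ∈ C, y ∈ Set.range i → y = i z) ∧ (∀ y ∈ D, y ∉ C → y ∈ X.basicOpen f) ∧
      GenOn B l ∧ i.app D f • l = res B le_top τ := by
  obtain ⟨O, l₀, hzO, hl₀⟩ := TwistLib.exists_genOn hB z
  have hrest : IsClosed ((genSet hB τ : Set X₀)ᶜ \ {z}) := by
    have e : (genSet hB τ : Set X₀)ᶜ \ {z} = ⋃ w ∈ (genSet hB τ : Set X₀)ᶜ \ {z}, {w} :=
      (Set.biUnion_of_singleton _).symm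
    rw [e]
    exact (hfin.subset Set.diff_subset).isClosed_biUnion fun w hw => hclosed w hw.1
  let O₁ : X₀.Opens := O ⊓ ⟨((genSet hB τ : Set X₀)ᶜ \ {z})ᶜ, hrest.isOpen_compl⟩
  obtain ⟨W, hW, hzW, hWO⟩ := exists_affine_trace i (O := O₁) (x := z) ⟨hzO, fun h => h.2 rfl⟩
  have hWO' : i ⁻¹ᵁ W ≤ O := hWO.trans inf_le_left
  obtain ⟨φ, hφ⟩ := (hl₀ (i ⁻¹ᵁ W) hWO').2 (res B le_top τ)
  dsimp only at hφ
  obtain ⟨f, hf⟩ := Scheme.Hom.app_surjective i W hW φ
  have hiff : ∀ (x : X₀) (hx : x ∈ i ⁻¹ᵁ W), i x ∈ X.basicOpen f ↔ x ∈ genSet hB τ := by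
    intro x hx
    have h1 : x ∈ i ⁻¹ᵁ X.basicOpen f ↔ x ∈ X₀.basicOpen φ := by rw [Scheme.preimage_basicOpen, hf]
    refine (h1.trans ?_)
    rw [← AmpleLib.genAt_smul_iff φ _ hx ((hl₀.res hWO').genAt hx), hφ, AmpleLib.genAt_res]
    exact Iff.rfl
  let Y : Set X := closure ((W : Set X) ∩ (X.basicOpen f : Set X)ᶜ)
  have hY : IsClosed Y := isClosed_closure
  have hYW : ∀ y ∈ Y, y ∈ W → y ∉ X.basicOpen f := fun y hy _ => by
    have : Y ⊆ (X.basicOpen f : Set X)ᶜ :=
      closure_minimal Set.inter_subset_right (X.basicOpen f).2.isClosed_compl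
    exact this hy
  have hpY : i z ∈ Y := subset_closure ⟨hzW, fun h => hz ((hiff z hzW).mp h)⟩
  have hp : IsClosed ({i z} : Set X) := by
    rw [← Set.image_singleton]
    exact i.isClosedEmbedding.isClosedMap _ (hclosed z hz)
  obtain ⟨hCW, hCR⟩ := component_spec hb hY W.2 hpY hzW hp ⟨z, rfl⟩ fun y hy hyW hyR => by
    obtain ⟨x, rfl⟩ := hyR
    have hx : x ∉ genSet hB τ := fun h => hYW _ hy hyW ((hiff x hyW).mpr h)
    exact congrArg i (not_not.mp fun hne => (hWO hyW).2 ⟨hx, hne⟩)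
  let C := connectedComponentIn Y (i z)
  let D : X.Opens := W ⊓ ⟨(Y \ C)ᶜ, (isClosed_sdiff_component hY _).isOpen_compl⟩
  have hDW : D ≤ W := inf_le_left
  refine ⟨D, C, X.presheaf.map (homOfLE hDW).op f, res B ((i.preimage_mono hDW).trans hWO') l₀,
    isClosed_component hY _, mem_connectedComponentIn hpY, fun y hy => ⟨hCW hy, fun h => h.2 hy⟩, hCR,
    fun y hy hyC => ?_, hl₀.res _, ?_⟩
  · rw [Scheme.basicOpen_res]
    refine ⟨hy, not_not.mp fun h => ?_⟩
    exact hy.2 ⟨subset_closure ⟨hy.1, h⟩, hyC⟩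
  · rw [FinPicLib.app_res i hDW, hf, ← AmpleLib.res_res B hWO' (i.preimage_mono hDW)]
    refine ((AmpleLib.res_smul _ _ _ _).symm.trans ?_)
    rw [hφ, AmpleLib.res_res]

/-- An invertible module with a section vanishing at finitely many closed points lifts. -/
theorem exists_lift_of_section [NoetherianSpace X]
    (hb : ∀ Y : Set X, IsClosed Y → Y.Nonempty → _root_.IsConnected Y →
      (Y ∩ Set.range i).Nonempty ∧ _root_.IsConnected (Y ∩ Set.range i))
    {B : X₀.Modules} (hB : PicF.IsInvertible B) (τ : Γ(B, ⊤)) (hfin : ((genSet hB τ : Set X₀)ᶜ).Finite)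
    (hclosed : ∀ z ∉ genSet hB τ, IsClosed ({z} : Set X₀)) :
    ∃ N : X.Modules, PicF.IsInvertible N ∧ Nonempty (pb i N ≅ B) := by
  classical
  let Z : Set X₀ := (genSet hB τ : Set X₀)ᶜ
  choose D₀ C f₀ l₀ hC hzC hCD hCR hunit hl₀ hfl using
    fun z : Z => exists_local_datum i hb hB τ hfin hclosed z.2
  haveI : Finite Z := hfin.to_subtype
  have hCdisj : ∀ a b : Z, ∀ y ∈ C a, y ∈ C b → a = b := by
    intro a b y ha hbC
    have hcc : _root_.IsConnected (closure ({y} : Set X)) := isConnected_singleton.closure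
    obtain ⟨⟨w, hw, hwR⟩, -⟩ := hb _ isClosed_closure hcc.nonempty hcc
    have h1 := hCR a w (closure_minimal (Set.singleton_subset_iff.mpr ha) (hC a) hw) hwR
    have h2 := hCR b w (closure_minimal (Set.singleton_subset_iff.mpr hbC) (hC b) hw) hwR
    exact Subtype.ext (i.isClosedEmbedding.injective (h1.symm.trans h2))
  let U : X.Opens := ⟨(⋃ z : Z, C z)ᶜ, (isClosed_iUnion_of_finite hC).isOpen_compl⟩
  let D : Z → X.Opens := fun z =>
    D₀ z ⊓ ⟨(⋃ z' : {z' : Z // z' ≠ z}, C z'.1)ᶜ, (isClosed_iUnion_of_finite fun (z' : {z' : Z // z' ≠ z}) => hC z'.1).isOpen_compl⟩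
  have hCD' : ∀ z, ∀ y ∈ C z, y ∈ D z := fun z y hy => ⟨hCD z hy, fun h => by
    obtain ⟨z', hz'⟩ := Set.mem_iUnion.mp h
    exact z'.2 (hCdisj z'.1 z y hz' hy)⟩
  have honly : ∀ z, ∀ y ∈ D z, y ∉ U → y ∈ C z := fun z y hy hyU => by
    obtain ⟨z', hz'⟩ := Set.mem_iUnion.mp (not_not.mp hyU : y ∈ ⋃ z : Z, C z)
    by_cases h : z' = z
    · exact h ▸ hz'
    · exact absurd (Set.mem_iUnion.mpr ⟨⟨z', h⟩, hz'⟩) hy.2
  have hdisj : ∀ a b : Z, a ≠ b → D a ⊓ D b ≤ U := fun a b hab y hy => by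
    by_contra hyU
    exact hab (hCdisj a b y (honly a y hy.1 hyU) (honly b y hy.2 hyU))
  let A := (Scheme.Modules.pushforward U.ι).obj (Coh.structureModule (U : Scheme.{u}))
  let σ : Γ(A, ⊤) := (1 : Γ((U : Scheme.{u}), U.ι ⁻¹ᵁ ⊤))
  have hσ : GenOn A (res A (le_top : U ≤ ⊤) σ) := by
    intro W hW
    have hb : Function.Bijective (U.ι.app W) := by
      haveI := U.ι.isIso_app W (hW.trans_eq (Scheme.Opens.opensRange_ι U).symm)
      exact ConcreteCategory.bijective_of_isIso (U.ι.app W)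
    have e : (fun r : Γ(X, W) => r • res A hW (res A (le_top : U ≤ ⊤) σ)) = fun r => U.ι.app W r := funext fun r => by
      rw [AmpleLib.res_res]
      refine (congrArg (fun t : Γ((U : Scheme.{u}), U.ι ⁻¹ᵁ W) => (U.ι.app W).hom r * t)
        (map_one ((U : Scheme.{u}).presheaf.map (homOfLE (U.ι.preimage_mono (le_top : W ≤ ⊤))).op).hom)).trans (mul_one _)
    rw [e]
    exact hb
  -- inverses of the local equations outside the closed sets
  have hfu : ∀ z, IsUnit (X.presheaf.map (homOfLE (inf_le_left.trans inf_le_left : D z ⊓ U ≤ D₀ z)).op (f₀ z)) := by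
    intro z
    have hle : D z ⊓ U ≤ X.basicOpen (f₀ z) := fun y hy => hunit z y hy.1.1 fun h => hy.2 (Set.mem_iUnion.mpr ⟨z, h⟩)
    have h1 := (X.toRingedSpace.isUnit_res_basicOpen (f₀ z)).map (X.presheaf.map (homOfLE hle).op).hom
    exact (congrArg IsUnit (show _ = X.presheaf.map (homOfLE (inf_le_left.trans inf_le_left)).op (f₀ z) from
      AmpleLib.res_res (Coh.structureModule X) (X.basicOpen_le (f₀ z)) hle (f₀ z))).mp h1
  let w : ∀ z, Γ(X, D z ⊓ U) := fun z => ↑(hfu z).unit⁻¹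
  have hw : ∀ z, IsUnit (w z) := fun z => Units.isUnit _
  have hwf : ∀ z, w z * X.presheaf.map (homOfLE (inf_le_left.trans inf_le_left : D z ⊓ U ≤ D₀ z)).op (f₀ z) = 1 :=
    fun z => (hfu z).val_inv_mul
  choose E hE using fun z => (UFDExtLib.res_push_bijective U (Coh.structureModule (U : Scheme.{u}))
    (inf_le_left : D z ⊓ U ≤ D z) le_rfl).2 (w z • res A inf_le_right (res A (le_top : U ≤ ⊤) σ))
  have hgen : ∀ z (W : X.Opens) (_ : W ≤ U) (h : W ≤ D z),
      Function.Bijective fun r : Γ(X, W) => r • res A h (E z) := by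
    intro y W hW h
    have e : (fun r : Γ(X, W) => r • res A h (E y)) =
        (fun r => r • res A hW (res A (le_top : U ≤ ⊤) σ)) ∘ fun r => r * X.presheaf.map (homOfLE (le_inf h hW)).op (w y) := funext fun r => by
      simp only [Function.comp_apply]
      rw [← AmpleLib.res_res A (inf_le_left : D y ⊓ U ≤ D y) (le_inf h hW), hE y, AmpleLib.res_smul,
        AmpleLib.res_res A inf_le_right, smul_smul]
    rw [e]
    exact (hσ W hW).comp ((hw y).map (X.presheaf.map (homOfLE (le_inf h hW)).op).hom).unit.mulRight.bijective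
  obtain ⟨N, p, ε, hN, hp, hε, -⟩ := DiscExtLib.exists_glue_module hgen
    (fun y => (em (y ∈ U)).imp id fun hy => by
      obtain ⟨z, hz⟩ := Set.mem_iUnion.mp (not_not.mp hy : y ∈ ⋃ z : Z, C z)
      exact ⟨z, hCD' z y hz⟩)
    hdisj (fun y hy => ⟨U, hy, le_rfl, _, hσ⟩)
  obtain ⟨g, hg⟩ := (hp U le_rfl).2 (res A le_top σ)
  have hgg : GenOn N g := fun W hW => by
    refine (Function.Bijective.of_comp_iff' (hp W hW) _).mp ?_
    have e : ((p.app W) ∘ fun r : Γ(X, W) => r • res N hW g) = fun r => r • res A hW (res A (le_top : U ≤ ⊤) σ) :=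
      funext fun r => (QCohLib.app_smul p W r _).trans
        (congrArg (r • ·) ((QCohLib.app_map p (homOfLE hW) g).trans (congrArg _ hg)))
    rw [e]
    exact hσ W hW
  have hU' : i ⁻¹ᵁ U ≤ genSet hB τ := fun x hx => not_not.mp fun h => hx (Set.mem_iUnion.mpr ⟨⟨x, h⟩, hzC _⟩)
  refine ⟨N, hN, FinPicLib.exists_iso_of_units i (fun k : Option Z => k.elim U D)
    (fun k => match k with | none => g | some y => ε y)
    (fun k => match k with | none => res B le_top τ
                           | some y => res B (i.preimage_mono (inf_le_left : D y ≤ D₀ y)) (l₀ y))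
    g (res B le_top τ) (fun y => by
      by_cases hy : y ∈ U
      · exact ⟨none, hy⟩
      · obtain ⟨z, hz⟩ := Set.mem_iUnion.mp (not_not.mp hy : y ∈ ⋃ z : Z, C z)
        exact ⟨some z, hCD' z y hz⟩) ?_ ?_ ?_
    (fun k => match k with | none => 1 | some y => w y) ?_ ?_ ?_⟩
  · rintro (_ | y)
    · exact hgg
    · exact (hε y).1
  · rintro (_ | y)
    · show GenOn B (res B (le_top : i ⁻¹ᵁ U ≤ ⊤) τ)
      have h := (TwistLib.genSet_genOn hB τ).res hU'
      rwa [AmpleLib.res_res] at h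
    · exact (hl₀ y).res _
  · rintro (_ | a) (_ | b) hne
    · exact absurd rfl hne
    · exact inf_le_left
    · exact inf_le_right
    · exact hdisj a b fun e => hne (congrArg some e)
  · rintro (_ | y)
    · exact isUnit_one
    · exact hw y
  · rintro (_ | y)
    · exact one_smul _ _
    · show w y • res N (inf_le_right : D y ⊓ U ≤ U) g = res N (inf_le_left : D y ⊓ U ≤ D y) (ε y)
      refine (hp (D y ⊓ U) inf_le_right).1 ?_
      show p.app (D y ⊓ U) (w y • res N inf_le_right g) = p.app (D y ⊓ U) (res N inf_le_left (ε y))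
      rw [QCohLib.app_smul]
      refine (congrArg (w y • ·) ((QCohLib.app_map p (homOfLE inf_le_right) g).trans (congrArg _ hg))).trans ?_
      refine ((hE y).symm.trans ?_)
      exact ((QCohLib.app_map p (homOfLE inf_le_left) (ε y)).trans (congrArg _ (hε y).2)).symm
  · rintro (_ | y)
    · exact (congrArg (· • _) (map_one _)).trans (one_smul _ _)
    · show i.app (D y ⊓ U) (w y) • res B (i.preimage_mono (inf_le_right : D y ⊓ U ≤ U))
          (res B (le_top : i ⁻¹ᵁ U ≤ ⊤) τ) =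
        res B (i.preimage_mono (inf_le_left : D y ⊓ U ≤ D y))
          (res B (i.preimage_mono (inf_le_left : D y ≤ D₀ y)) (l₀ y))
      have h := congrArg (res B (i.preimage_mono (inf_le_left.trans inf_le_left : D y ⊓ U ≤ D₀ y))) (hfl y)
      rw [AmpleLib.res_smul, ← FinPicLib.app_res i (inf_le_left.trans inf_le_left : D y ⊓ U ≤ D₀ y),
        AmpleLib.res_res] at h
      rw [AmpleLib.res_res, AmpleLib.res_res, ← h, smul_smul, ← map_mul, hwf, map_one, one_smul]

/-- The Picard group surjects onto that of an ample curve meeting every connected closed set in a connected set. -/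
theorem exists_lift [IsNoetherian X] (ha : topologicalKrullDim X₀ ≤ 1)
    (hb : ∀ Y : Set X, IsClosed Y → Y.Nonempty → _root_.IsConnected Y →
      (Y ∩ Set.range i).Nonempty ∧ _root_.IsConnected (Y ∩ Set.range i))
    {A : X₀.Modules} (hA : CohB1.IsAmple A) {L : X₀.Modules} (hL : PicF.IsInvertible L) :
    ∃ N : X.Modules, PicF.IsInvertible N ∧ Nonempty ((Scheme.Modules.pullback i).obj N ≅ L) := by
  haveI : NoetherianSpace X₀ := i.isClosedEmbedding.toIsInducing.noetherianSpace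
  let G : Set X₀ := {η | FinPicLib.IsGen η}
  have hG : G.Finite := FinPicLib.finite_isGen
  obtain ⟨B, A', ⟨hB, τB, hτB⟩, ⟨hA', τA, hτA⟩, hP, τP, hτP⟩ :=
    CycBivLib.exists_avoids hA hL hG fun z hz z' _ h => (show FinPicLib.IsGen z from hz) z' h
  have key : ∀ {M : X₀.Modules} (hM : PicF.IsInvertible M) (σ : Γ(M, ⊤)), G ⊆ genSet hM σ →
      ∃ N : X.Modules, PicF.IsInvertible N ∧ Nonempty (pb i N ≅ M) := by
    intro M hM σ hσ
    have hng : ∀ y ∈ (genSet hM σ : Set X₀)ᶜ, ¬ FinPicLib.IsGen y := fun y hy hg => hy (hσ hg)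
    refine exists_lift_of_section i hb hM σ (FinPicLib.finite_of_closed ha (genSet hM σ).2.isClosed_compl hng) ?_
    intro z hz
    have e : closure ({z} : Set X₀) = {z} := Set.Subset.antisymm (fun w hw => (FinPicLib.eq_of_specializes_of_not_isGen ha
      (hng z hz) (specializes_iff_mem_closure.mpr hw)).symm) subset_closure
    exact e ▸ isClosed_closure
  obtain ⟨N₁, hN₁, ⟨e₁⟩⟩ := key hP τP hτP
  obtain ⟨N₂, hN₂, ⟨e₂⟩⟩ := key hB τB hτB
  obtain ⟨N₃, hN₃, ⟨e₃⟩⟩ := key hA' τA hτA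
  have hN := CubeConsLib.isInvertible_tensor_dual (CubeConsLib.isInvertible_tensor_dual hN₁ hN₂) hN₃
  refine ⟨_, hN, CubeConsLib.cl_eq_iff.mp ?_⟩
  have p₁ : CubeConsLib.pull i (CubeConsLib.cl N₁) = CubeConsLib.cl B * CubeConsLib.cl L * CubeConsLib.cl A' :=
    CubeConsLib.cl_eq_iff.mpr ⟨e₁⟩
  have p₂ : CubeConsLib.pull i (CubeConsLib.cl N₂) = CubeConsLib.cl B := CubeConsLib.cl_eq_iff.mpr ⟨e₂⟩
  have p₃ : CubeConsLib.pull i (CubeConsLib.cl N₃) = CubeConsLib.cl A' := CubeConsLib.cl_eq_iff.mpr ⟨e₃⟩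
  have d₂ : CubeConsLib.cl N₂ * CubeConsLib.cl (MiscFlat6.dual N₂) = 1 :=
    CubeConsLib.cl_eq_one_iff.2 (MiscFlat6.nonempty_dualIso hN₂)
  have d₃ : CubeConsLib.cl N₃ * CubeConsLib.cl (MiscFlat6.dual N₃) = 1 :=
    CubeConsLib.cl_eq_one_iff.2 (MiscFlat6.nonempty_dualIso hN₃)
  have q₂ := congrArg (CubeConsLib.pull i) d₂
  have q₃ := congrArg (CubeConsLib.pull i) d₃
  rw [map_mul, map_one, p₂] at q₂
  rw [map_mul, map_one, p₃] at q₃
  rw [← CubeConsLib.pull_cl, CubeConsLib.cl_tensor, CubeConsLib.cl_tensor, map_mul, map_mul, p₁]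
  calc CubeConsLib.cl B * CubeConsLib.cl L * CubeConsLib.cl A' * CubeConsLib.pull i (CubeConsLib.cl (MiscFlat6.dual N₂)) *
        CubeConsLib.pull i (CubeConsLib.cl (MiscFlat6.dual N₃))
      = CubeConsLib.cl L * (CubeConsLib.cl B * CubeConsLib.pull i (CubeConsLib.cl (MiscFlat6.dual N₂))) *
        (CubeConsLib.cl A' * CubeConsLib.pull i (CubeConsLib.cl (MiscFlat6.dual N₃))) := by ac_rfl
    _ = CubeConsLib.cl L := by rw [q₂, q₃, mul_one, mul_one]

end PicAmpleLiftLib
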