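import Mathlib.Topology.NoetherianSpace
import Mathlib.Topology.Connected.Basic

/-!
# Connected components in Noetherian spaces
-/

set_option autoImplicit false
universe u

open TopologicalSpace

namespace PicAmpleLiftLib

variable {α : Type u} [TopologicalSpace α] [NoetherianSpace α]

/-- The complement of a connected component of a closed subset is closed. -/
theorem isClosed_sdiff_component {Y : Set α} (hY : IsClosed Y) (c : α) :
    IsClosed (Y \ connectedComponentIn Y c) := by
  obtain ⟨S, hS, hScl, hSir, hYS⟩ := NoetherianSpace.exists_finite_set_isClosed_irreducible hY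
  have key : Y \ connectedComponentIn Y c = ⋃ t ∈ {t ∈ S | ¬ t ⊆ connectedComponentIn Y c}, t := by
    refine Set.Subset.antisymm (fun z hz => ?_) fun z hz => ?_
    · obtain ⟨t, ht, hzt⟩ := (hYS ▸ hz.1 : z ∈ ⋃₀ S)
      exact Set.mem_iUnion₂.mpr ⟨t, ⟨ht, fun h => hz.2 (h hzt)⟩, hzt⟩
    · obtain ⟨t, ⟨ht, hnot⟩, hzt⟩ := Set.mem_iUnion₂.mp hz
      have htY : t ⊆ Y := hYS ▸ Set.subset_sUnion_of_mem ht
      refine ⟨htY hzt, fun hzC => hnot ?_⟩
      rw [connectedComponentIn_eq hzC]
      exact (hSir t ht).isConnected.isPreconnected.subset_connectedComponentIn hzt htY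
  rw [key]
  exact (hS.subset fun t ht => ht.1).isClosed_biUnion fun t ht => hScl t ht.1

omit [NoetherianSpace α] in
theorem isClosed_component {Y : Set α} (hY : IsClosed Y) (c : α) : IsClosed (connectedComponentIn Y c) := by
  by_cases hc : c ∈ Y
  · refine closure_subset_iff_isClosed.mp ?_
    exact (isPreconnected_connectedComponentIn.closure).subset_connectedComponentIn
      (subset_closure (mem_connectedComponentIn hc))
      (closure_minimal (connectedComponentIn_subset Y c) hY)
  · rw [connectedComponentIn_eq_empty hc]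
    exact isClosed_empty

/-- In a pair where every connected closed set meets `R` in a connected set, a component of `closure (W ∩ ·)` through
a point with a closed isolated trace stays inside `W`. -/
theorem component_spec {R : Set α} (hb : ∀ Y : Set α, IsClosed Y → Y.Nonempty → _root_.IsConnected Y →
      (Y ∩ R).Nonempty ∧ _root_.IsConnected (Y ∩ R))
    {Y W : Set α} (hY : IsClosed Y) (hW : IsOpen W) {p : α} (hpY : p ∈ Y) (hpW : p ∈ W) (hp : IsClosed ({p} : Set α))
    (hpR : p ∈ R) (htr : ∀ y ∈ Y, y ∈ W → y ∈ R → y = p) :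
    connectedComponentIn Y p ⊆ W ∧ ∀ y ∈ connectedComponentIn Y p, y ∈ R → y = p := by
  have hC := isClosed_component hY p
  have hCc : _root_.IsConnected (connectedComponentIn Y p) := isConnected_connectedComponentIn_iff.mpr hpY
  obtain ⟨-, hconn⟩ := hb _ hC hCc.nonempty hCc
  have h2 : ∀ y ∈ connectedComponentIn Y p, y ∈ R → y = p := by
    intro y hy hyR
    have hsub : connectedComponentIn Y p ∩ R ⊆ {p} ∪ Wᶜ := fun z hz => by
      by_cases hzW : z ∈ W
      · exact Or.inl (htr z (connectedComponentIn_subset Y p hz.1) hzW hz.2)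
      · exact Or.inr hzW
    rcases isPreconnected_iff_subset_of_disjoint_closed.mp hconn.isPreconnected _ _ hp hW.isClosed_compl hsub
        (Set.eq_empty_of_forall_notMem fun z hz => hz.2.2 ((Set.mem_singleton_iff.mp hz.2.1) ▸ hpW)) with h | h
    · exact h ⟨hy, hyR⟩
    · exact absurd hpW (h ⟨mem_connectedComponentIn hpY, hpR⟩)
  refine ⟨fun y hy => ?_, h2⟩
  by_contra hyW
  have hcl : IsClosed (connectedComponentIn Y p ∩ Wᶜ) := hC.inter hW.isClosed_compl
  have hcc : _root_.IsConnected (connectedComponentIn (connectedComponentIn Y p ∩ Wᶜ) y) :=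
    isConnected_connectedComponentIn_iff.mpr ⟨hy, hyW⟩
  obtain ⟨⟨z, hz, hzR⟩, -⟩ := hb _ (isClosed_component hcl y) hcc.nonempty hcc
  have hz' := connectedComponentIn_subset _ _ hz
  exact hz'.2 ((h2 z hz'.1 hzR) ▸ hpW)

end PicAmpleLiftLib
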